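import Mathlib
import Cfsg.Agent.Lib.Helper18.PRL.Defs

/-!
# Project UE (S3806): existence of uniform elements in p-groups of maximal class

Definitions only: `TS G j x` (`x` lies in the two-step centralizer `K_j = C_G(Z_j / Z_{j-2})`)
and the subgroup `K G j`.
-/

set_option autoImplicit false

namespace Cfsg.Agent.Lib.helper4.UE

open Cfsg.Agent.Lib.Helper18.PRL
open scoped commutatorElement

/-- `x` centralizes `Z_j / Z_{j-2}`: `[y, x] ∈ Z_{j-2}` for all `y ∈ Z_j`. -/
def TS (G : Type*) [Group G] (j : ℕ) (x : G) : Prop :=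
  ∀ y ∈ Z G j, ⁅y, x⁆ ∈ Z G (j - 2)

/-- The two-step centralizer `K_j = C_G(Z_j / Z_{j-2})`. -/
def K (G : Type*) [Group G] (j : ℕ) : Subgroup G where
  carrier := {x | TS G j x}
  one_mem' := by
    intro y _
    have : ⁅y, (1 : G)⁆ = 1 := by simp [commutatorElement_def]
    rw [this]; exact one_mem _
  mul_mem' := by
    intro a b ha hb y hy
    have e : ⁅y, a * b⁆ = ⁅y, a⁆ * (a * ⁅y, b⁆ * a⁻¹) := by
      simp only [commutatorElement_def]; group
    rw [e]
    exact mul_mem (ha y hy)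
      ((inferInstance : (Z G (j - 2)).Normal).conj_mem _ (hb y hy) a)
  inv_mem' := by
    intro a ha y hy
    have e : ⁅y, a⁻¹⁆ = a⁻¹ * (⁅y, a⁆)⁻¹ * a⁻¹⁻¹ := by
      simp only [commutatorElement_def]; group
    rw [e]
    exact (inferInstance : (Z G (j - 2)).Normal).conj_mem _ (inv_mem (ha y hy)) a⁻¹

theorem mem_K {G : Type*} [Group G] (j : ℕ) (x : G) : x ∈ K G j ↔ TS G j x := Iff.rfl

end Cfsg.Agent.Lib.helper4.UE
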